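import Mathlib
import Groth.Agent.H9.RG.HDI3
import Groth.Agent.H58.LCBasic
import Groth.Prelude.Def_Wider

/-!
# `colim_n Hom_{D(A)}(A/I^n, M[i]) ≃ H^i_I(M)` for a module `M`
-/

set_option autoImplicit false
universe u
open CategoryTheory CategoryTheory.Limits Opposite

attribute [local instance] HasDerivedCategory.standard

namespace Groth.Agent.H9.LD

open Groth.Agent.H9.RG

variable {A : Type u} [CommRing A] (I : Ideal A) (i : ℕ) (M : ModuleCat.{u} A)

/-- `M` in degree `0` -/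
noncomputable abbrev sM : Dual.D A := (DerivedCategory.singleFunctor (ModuleCat.{u} A) 0).obj M

lemma homEquiv_symm_precomp {X' X Y : ModuleCat.{u} A} (f : X' ⟶ X) (n : ℕ)
    (α : ShiftedHom ((DerivedCategory.singleFunctor (ModuleCat.{u} A) 0).obj X)
      ((DerivedCategory.singleFunctor (ModuleCat.{u} A) 0).obj Y) (n : ℤ)) :
    (Abelian.Ext.homEquiv (X := X') (Y := Y) (n := n)).symm
        ((DerivedCategory.singleFunctor (ModuleCat.{u} A) 0).map f ≫ α) =
      (Abelian.Ext.mk₀ f).comp ((Abelian.Ext.homEquiv (X := X) (Y := Y) (n := n)).symm α)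
        (zero_add n) := by
  apply Abelian.Ext.homEquiv.injective
  rw [Equiv.apply_symm_apply]
  have h1 := Abelian.Ext.comp_hom (Abelian.Ext.mk₀ f)
    ((Abelian.Ext.homEquiv (X := X) (Y := Y) (n := n)).symm α) (zero_add n)
  refine Eq.trans ?_ h1.symm
  rw [Abelian.Ext.mk₀_hom]
  have h2 : ((Abelian.Ext.homEquiv (X := X) (Y := Y) (n := n)).symm α).hom = α :=
    Equiv.apply_symm_apply _ _
  rw [h2, ShiftedHom.mk₀_comp]

/-- the leg `Hom(A/I^n, M[i]) → H^i_I(M)` -/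
noncomputable def cmpLeg (n : ℕ) :
    (Sn I n ⟶ (sM M)⟦(i : ℤ)⟧) →ₗ[A] (localCohomology I i).obj M :=
  Groth.Agent.H58.LC.ι I i M n ∘ₗ
    (Abelian.Ext.homLinearEquiv (R := A) (X := Groth.Agent.H58.LC.Q I n) (Y := M) (n := i)).symm.toLinearMap

lemma cmpLeg_apply (n : ℕ) (α : Sn I n ⟶ (sM M)⟦(i : ℤ)⟧) :
    cmpLeg I i M n α = Groth.Agent.H58.LC.ι I i M n
      ((Abelian.Ext.homEquiv (X := Groth.Agent.H58.LC.Q I n) (Y := M) (n := i)).symm α) := rfl


lemma cmpLeg_trans {n m : ℕ} (h : n ≤ m) (α : Sn I n ⟶ (sM M)⟦(i : ℤ)⟧) :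
    cmpLeg I i M m ((DerivedCategory.singleFunctor (ModuleCat.{u} A) 0).map
        (Groth.Agent.H58.LC.Qmap I h) ≫ α) = cmpLeg I i M n α := by
  rw [cmpLeg_apply, cmpLeg_apply]
  have h1 := homEquiv_symm_precomp (Groth.Agent.H58.LC.Qmap I h) i (Y := M) α
  refine Eq.trans (congrArg _ h1) ?_
  exact Groth.Agent.H58.LC.ι_restrict I i M h _

lemma cmpLeg_eq_zero {n : ℕ} (α : Sn I n ⟶ (sM M)⟦(i : ℤ)⟧) (hα : cmpLeg I i M n α = 0) :
    ∃ (m : ℕ) (h : n ≤ m), (DerivedCategory.singleFunctor (ModuleCat.{u} A) 0).map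
        (Groth.Agent.H58.LC.Qmap I h) ≫ α = 0 := by
  rw [cmpLeg_apply, Groth.Agent.H58.LC.ι_eq_zero_iff] at hα
  obtain ⟨m, h, h0⟩ := hα
  refine ⟨m, h, ?_⟩
  have h1 := homEquiv_symm_precomp (Groth.Agent.H58.LC.Qmap I h) i (Y := M) α
  rw [h0] at h1
  have h2 := congrArg (Abelian.Ext.homEquiv (X := Groth.Agent.H58.LC.Q I m) (Y := M) (n := i)) h1
  rw [Equiv.apply_symm_apply] at h2
  refine h2.trans ?_
  exact Abelian.Ext.zero_hom (X := Groth.Agent.H58.LC.Q I m) (Y := M) (n := i)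

lemma cmpLeg_surjective (x : (localCohomology I i).obj M) :
    ∃ (n : ℕ) (α : Sn I n ⟶ (sM M)⟦(i : ℤ)⟧), cmpLeg I i M n α = x := by
  obtain ⟨n, e, rfl⟩ := Groth.Agent.H58.LC.exists_rep I i M x
  let α : Sn I n ⟶ (sM M)⟦(i : ℤ)⟧ :=
    Abelian.Ext.homEquiv (X := Groth.Agent.H58.LC.Q I n) (Y := M) (n := i) e
  refine ⟨n, α, ?_⟩
  have h1 := cmpLeg_apply I i M n α
  refine h1.trans ?_
  exact congrArg _ (Equiv.symm_apply_apply _ e)

/-- the cocone with point `H^i_I(M)` -/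
noncomputable def cmpCocone : Cocone (FD I (i : ℤ) (sM M)) where
  pt := ModuleCat.of A (ULift.{u + 1} ((localCohomology I i).obj M))
  ι :=
    { app := fun j => ModuleCat.ofHom
        ((ULift.moduleEquiv (R := A) (M := (localCohomology I i).obj M)).symm.toLinearMap ∘ₗ
          cmpLeg I i M j.unop.unop)
      naturality := by
        intro j j' f
        ext α
        apply ULift.ext
        exact cmpLeg_trans I i M (leOfHom f.unop.unop) α }

lemma cmpCocone_ι_apply (n : ℕ) (α : Sn I n ⟶ (sM M)⟦(i : ℤ)⟧) :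
    ((cmpCocone I i M).ι.app (op (op n))).hom α = ULift.up (cmpLeg I i M n α) := rfl

/-- the comparison map -/
noncomputable def cmpDesc :
    Dual2.HDI A I (sM M) (i : ℤ) ⟶
      ModuleCat.of A (ULift.{u + 1} ((localCohomology I i).obj M)) :=
  colimit.desc (FD I (i : ℤ) (sM M)) (cmpCocone I i M)

lemma cmpDesc_ι_apply (n : ℕ) (α : Sn I n ⟶ (sM M)⟦(i : ℤ)⟧) :
    (cmpDesc I i M).hom ((colimit.ι (FD I (i : ℤ) (sM M)) (op (op n))).hom α) =
      ULift.up (cmpLeg I i M n α) := by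
  have := congrArg (fun f => f.hom α)
    (colimit.ι_desc (cmpCocone I i M) (op (op n)))
  exact this

lemma cmpDesc_bijective : Function.Bijective (cmpDesc I i M).hom := by
  constructor
  · rw [injective_iff_map_eq_zero]
    intro x hx
    obtain ⟨j, α, rfl⟩ := colimit_exists_rep' (FD I (i : ℤ) (sM M)) x
    have h1 := cmpDesc_ι_apply I i M j.unop.unop α
    have h2 : cmpLeg I i M j.unop.unop α = 0 := by
      have := h1.symm.trans hx
      exact congrArg ULift.down this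
    obtain ⟨m, hm, h3⟩ := cmpLeg_eq_zero I i M α h2
    let f : j ⟶ op (op m) := (homOfLE hm).op.op
    have hw := congrArg (fun g => g.hom α) (colimit.w (FD I (i : ℤ) (sM M)) f)
    refine hw.symm.trans ?_
    have h4 : ((FD I (i : ℤ) (sM M)).map f).hom α = 0 := h3
    show (colimit.ι (FD I (i : ℤ) (sM M)) (op (op m))).hom
      (((FD I (i : ℤ) (sM M)).map f).hom α) = 0
    rw [h4, map_zero]
  · intro y
    obtain ⟨n, α, hα⟩ := cmpLeg_surjective I i M y.down
    refine ⟨(colimit.ι (FD I (i : ℤ) (sM M)) (op (op n))).hom α, ?_⟩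
    rw [cmpDesc_ι_apply, hα]

/-- **CMP**: `HDI(M[0]) ≃ H^i_I(M)` -/
theorem nonempty_hdi_equiv_localCohomology :
    Nonempty (Dual2.HDI A I (sM M) (i : ℤ) ≃ₗ[A] (localCohomology I i).obj M) := by
  have e1 : Dual2.HDI A I (sM M) (i : ℤ) ≃ₗ[A] ULift.{u + 1} ((localCohomology I i).obj M) :=
    LinearEquiv.ofBijective (cmpDesc I i M).hom (cmpDesc_bijective I i M)
  exact ⟨e1.trans ULift.moduleEquiv⟩

/-- type-level version -/
theorem nonempty_hdi_inD_equiv_H (N : Type u) [AddCommGroup N] [Module A N] :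
    Nonempty (Dual2.HDI A I (Dual.inD A N) (i : ℤ) ≃ₗ[A] LocCoh.H I i N) :=
  nonempty_hdi_equiv_localCohomology I i (ModuleCat.of A N)

end Groth.Agent.H9.LD
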