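import Mathlib

/-!
# Sequential colimits of modules along injective maps

For a diagram `F : ℕᵒᵖᵒᵖ ⥤ ModuleCat A` (any universe of modules), an element of `F n` dying in the
colimit dies at a finite stage; in particular, when all transition maps are injective, so are the
maps into the colimit.  (Proof: map to `(∏ₖ F k) / (eventually zero sequences)`.)
-/

set_option autoImplicit false
universe w' u
open CategoryTheory CategoryTheory.Limits Opposite

namespace Groth.Agent.H9.LD

variable {A : Type u} [Ring A] (F : ℕᵒᵖᵒᵖ ⥤ ModuleCat.{w'} A)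

/-- the product of all terms -/
abbrev PiF : Type w' := ∀ k : ℕ, F.obj (op (op k))

/-- eventually vanishing sequences -/
def evZero : Submodule A (PiF F) where
  carrier := {s | ∃ N : ℕ, ∀ k, N ≤ k → s k = 0}
  zero_mem' := ⟨0, fun _ _ => rfl⟩
  add_mem' := by
    rintro s s' ⟨N, hN⟩ ⟨N', hN'⟩
    refine ⟨max N N', fun k hk => ?_⟩
    show s k + s' k = 0
    rw [hN k (le_trans (le_max_left _ _) hk), hN' k (le_trans (le_max_right _ _) hk), add_zero]
  smul_mem' := by
    rintro a s ⟨N, hN⟩
    refine ⟨N, fun k hk => ?_⟩
    show a • s k = 0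
    rw [hN k hk, smul_zero]

/-- the transition map `F n ⟶ F k` -/
noncomputable abbrev tr {n k : ℕ} (h : n ≤ k) : F.obj (op (op n)) ⟶ F.obj (op (op k)) :=
  F.map (homOfLE h).op.op

/-- the sequence of images of an element -/
noncomputable def seqOf (n : ℕ) : F.obj (op (op n)) →ₗ[A] PiF F where
  toFun z k := if h : n ≤ k then (tr F h).hom z else 0
  map_add' z z' := by
    funext k
    by_cases h : n ≤ k
    · simp [h]
    · simp [h]
  map_smul' a z := by
    funext k
    by_cases h : n ≤ k
    · simp [h]
    · simp [h]

lemma seqOf_apply_of_le (n : ℕ) (z : F.obj (op (op n))) {k : ℕ} (h : n ≤ k) :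
    seqOf F n z k = (tr F h).hom z := by
  simp [seqOf, h]

/-- the cocone with point `(∏ F k) / (eventually zero)` -/
noncomputable def seqCocone : Cocone F where
  pt := ModuleCat.of A (PiF F ⧸ evZero F)
  ι :=
    { app := fun j => ModuleCat.ofHom ((evZero F).mkQ ∘ₗ seqOf F j.unop.unop)
      naturality := by
        intro j j' g
        ext z
        have hle : j.unop.unop ≤ j'.unop.unop := leOfHom g.unop.unop
        show (evZero F).mkQ (seqOf F j'.unop.unop ((F.map g).hom z)) =
          (evZero F).mkQ (seqOf F j.unop.unop z)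
        rw [← sub_eq_zero, ← map_sub]
        refine (Submodule.Quotient.mk_eq_zero _).2 ⟨j'.unop.unop, fun k hk => ?_⟩
        show seqOf F j'.unop.unop ((F.map g).hom z) k - seqOf F j.unop.unop z k = 0
        rw [seqOf_apply_of_le F _ _ hk, seqOf_apply_of_le F _ _ (hle.trans hk), sub_eq_zero]
        have : g ≫ (homOfLE hk).op.op = (homOfLE (hle.trans hk)).op.op := Subsingleton.elim _ _
        show (F.map g ≫ F.map (homOfLE hk).op.op).hom z = _
        rw [← F.map_comp, this] }

variable [HasColimit F]

/-- an element dying in the colimit dies at a finite stage -/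
lemma exists_tr_eq_zero (n : ℕ) (z : F.obj (op (op n)))
    (hz : (colimit.ι F (op (op n))).hom z = 0) : ∃ (k : ℕ) (h : n ≤ k), (tr F h).hom z = 0 := by
  have h1 := congrArg (fun g => g.hom z) (colimit.ι_desc (seqCocone F) (op (op n)))
  have h2 : (evZero F).mkQ (seqOf F n z) = 0 := by
    refine h1.symm.trans ?_
    show (colimit.desc F (seqCocone F)).hom ((colimit.ι F (op (op n))).hom z) = 0
    rw [hz, map_zero]
  obtain ⟨N, hN⟩ := (Submodule.Quotient.mk_eq_zero _).1 h2
  refine ⟨max N n, le_max_right _ _, ?_⟩
  rw [← seqOf_apply_of_le F n z (le_max_right N n)]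
  exact hN _ (le_max_left _ _)

/-- injective transition maps give injective maps to the colimit -/
lemma colimit_ι_injective (hF : ∀ {n k : ℕ} (h : n ≤ k), Function.Injective (tr F h).hom) (n : ℕ) :
    Function.Injective (colimit.ι F (op (op n))).hom := by
  rw [injective_iff_map_eq_zero]
  intro z hz
  obtain ⟨k, h, hk⟩ := exists_tr_eq_zero F n z hz
  exact hF h (hk.trans (map_zero _).symm)

end Groth.Agent.H9.LD
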