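import Mathlib
import Groth.Agent.H9.DC.GMEps

/-!
# Hom-level Greenlees–May facts

For `G` with `I`-power torsion cohomology: `Hom(G, RΓ_I K) ≃ Hom(G, K) ≃ Hom(G, K^∧)`; and
`RΓ_I K ⟶ K` is a local equivalence for derived complete objects.
-/

set_option autoImplicit false
universe u

open CategoryTheory CategoryTheory.Limits CategoryTheory.Pretriangulated

attribute [local instance] HasDerivedCategory.standard

namespace Groth.Agent.H9.LD

open DerivedCategory Groth.Agent.H9.RG Groth.Agent.H9.DC

variable {A : Type u} [CommRing A] (I : Ideal A)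

/-- torsion cohomology is stable under shift -/
lemma torsP_shift (L : Dual.D A) (hL : TorsP I L) (n : ℤ) : TorsP I (L⟦n⟧) := by
  intro i
  exact isPowerTorsion_of_iso I
    (((DerivedCategory.homologyFunctor (ModuleCat.{u} A) 0).shiftIso n i (n + i) rfl).app L).symm
    (hL (n + i))

lemma torsP_of_iso {L L' : Dual.D A} (e : L ≅ L') (hL : TorsP I L) : TorsP I L' :=
  hd_isPowerTorsion_of_iso I e hL

variable [DRing.HasRgammaI I] [IsNoetherianRing A]

/-- `Hom(G, RΓ_I K) ≃ Hom(G, K)` for torsion `G` -/
theorem bijective_comp_ε (G K : Dual.D A) (hG : TorsP I G) :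
    Function.Bijective (fun g : G ⟶ (DRing.RgammaI I).obj K => g ≫ (DRing.RgammaIε I).app K) := by
  constructor
  · intro g g' h
    exact comp_ε_injective I G K hG g g' h
  · intro k
    haveI := isIso_ε I G hG
    refine ⟨inv ((DRing.RgammaIε I).app G) ≫ (DRing.RgammaI I).map k, ?_⟩
    have nat : (DRing.RgammaI I).map k ≫ (DRing.RgammaIε I).app K =
        (DRing.RgammaIε I).app G ≫ k := (DRing.RgammaIε I).naturality k
    show (inv ((DRing.RgammaIε I).app G) ≫ (DRing.RgammaI I).map k) ≫ (DRing.RgammaIε I).app K = k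
    rw [Category.assoc, nat, IsIso.inv_hom_id_assoc]

/-- `Hom(G, K) ≃ Hom(G, K^∧)` for torsion `G` -/
theorem bijective_comp_toDerivedCompletion [DRing.HasDerivedCompletion I] (G K : Dual.D A)
    (hG : TorsP I G) :
    Function.Bijective (fun g : G ⟶ K => g ≫ DRing.toDerivedCompletion I K) := by
  have h1 := bijective_comp_ε I G K hG
  have h2 := bijective_comp_ε I G ((DRing.derivedCompletion I).obj K).obj hG
  haveI := isIso_RgammaI_map_toDerivedCompletion I K
  have h3 : Function.Bijective (fun g : G ⟶ (DRing.RgammaI I).obj K =>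
      g ≫ (DRing.RgammaI I).map (DRing.toDerivedCompletion I K)) :=
    ⟨fun g g' h => (cancel_mono _).1 h,
      fun g => ⟨g ≫ inv ((DRing.RgammaI I).map (DRing.toDerivedCompletion I K)), by simp⟩⟩
  have nat : (DRing.RgammaI I).map (DRing.toDerivedCompletion I K) ≫
      (DRing.RgammaIε I).app ((DRing.derivedCompletion I).obj K).obj =
      (DRing.RgammaIε I).app K ≫ DRing.toDerivedCompletion I K :=
    (DRing.RgammaIε I).naturality (DRing.toDerivedCompletion I K)
  have key : (fun g : G ⟶ K => g ≫ DRing.toDerivedCompletion I K) ∘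
      (fun g : G ⟶ (DRing.RgammaI I).obj K => g ≫ (DRing.RgammaIε I).app K) =
      (fun g : G ⟶ (DRing.RgammaI I).obj ((DRing.derivedCompletion I).obj K).obj =>
        g ≫ (DRing.RgammaIε I).app _) ∘
      (fun g : G ⟶ (DRing.RgammaI I).obj K =>
        g ≫ (DRing.RgammaI I).map (DRing.toDerivedCompletion I K)) := by
    funext g
    simp only [Function.comp_apply, Category.assoc]
    exact congrArg (g ≫ ·) nat.symm
  have h4 : Function.Bijective ((fun g : G ⟶ K => g ≫ DRing.toDerivedCompletion I K) ∘
      (fun g : G ⟶ (DRing.RgammaI I).obj K => g ≫ (DRing.RgammaIε I).app K)) := by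
    rw [key]
    exact h2.comp h3
  exact (Function.Bijective.of_comp_iff _ h1).1 h4

/-- `ε : RΓ_I K ⟶ K` is a local equivalence for derived complete objects -/
theorem locEq_RgammaIε_isDerivedComplete (K : Dual.D A) :
    LocEq (DRing.IsDerivedComplete I) ((DRing.RgammaIε I).app K) := by
  classical
  obtain ⟨s, hs⟩ := (IsNoetherian.noetherian I : I.FG)
  have hfs : Ideal.span {x | x ∈ s.toList} = I := by
    rw [← hs]
    congr 1
    ext x
    simp
  subst hfs
  exact LocEq.mono (fun M hM => (isDerivedComplete_iff_perpL _ M).1 hM)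
    (locEq_RgammaIε s.toList K)

end Groth.Agent.H9.LD
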