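import Mathlib
import Groth.Agent.H16.TwoTermA

/-!
# `Hom_{D(A)}(X, E[0]) ≃ Hom_A(H⁰(X), E)` for an injective module `E`
-/

set_option autoImplicit false
universe u

open CategoryTheory CategoryTheory.Limits CategoryTheory.Pretriangulated DerivedCategory

attribute [local instance] HasDerivedCategory.standard

namespace Groth.Agent.H9.LD

variable {A : Type u} [CommRing A]

variable (A) in
/-- the canonical t-structure on `D(A)` -/
noncomputable abbrev tS : Triangulated.TStructure (DerivedCategory (ModuleCat.{u} A)) :=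
  DerivedCategory.TStructure.t


/-- the comparison map `Hom(X, E[0]) → Hom(H⁰ X, E)` -/
noncomputable def homToH0 (X : DerivedCategory (ModuleCat.{u} A)) (E : ModuleCat.{u} A) :
    (X ⟶ (singleFunctor (ModuleCat.{u} A) 0).obj E) →ₗ[A] ((homologyFunctor (ModuleCat.{u} A) 0).obj X ⟶ E) where
  toFun φ := (homologyFunctor (ModuleCat.{u} A) 0).map φ ≫ (singleFunctorCompHomologyFunctorIso (ModuleCat.{u} A) 0).hom.app E
  map_add' φ φ' := by
    rw [Functor.map_add, Preadditive.add_comp]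
  map_smul' a φ := by
    have h1 : a • φ = φ ≫ (singleFunctor (ModuleCat.{u} A) 0).map (a • 𝟙 E) := by
      rw [Functor.map_smul, CategoryTheory.Functor.map_id, Linear.comp_smul, Category.comp_id]
    have nat := (singleFunctorCompHomologyFunctorIso (ModuleCat.{u} A) 0).hom.naturality (a • 𝟙 E)
    simp only [Functor.comp_map, Functor.id_map] at nat
    rw [h1, Functor.map_comp, Category.assoc, nat]
    simp

lemma homToH0_apply (X : DerivedCategory (ModuleCat.{u} A)) (E : ModuleCat.{u} A) (φ : X ⟶ (singleFunctor (ModuleCat.{u} A) 0).obj E) :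
    homToH0 X E φ =
      (homologyFunctor (ModuleCat.{u} A) 0).map φ ≫ (singleFunctorCompHomologyFunctorIso (ModuleCat.{u} A) 0).hom.app E := rfl

lemma homToH0_naturality {X' X : DerivedCategory (ModuleCat.{u} A)} (u : X' ⟶ X) (E : ModuleCat.{u} A) (φ : X ⟶ (singleFunctor (ModuleCat.{u} A) 0).obj E) :
    homToH0 X' E (u ≫ φ) = (homologyFunctor (ModuleCat.{u} A) 0).map u ≫ homToH0 X E φ := by
  rw [homToH0_apply, homToH0_apply, Functor.map_comp, Category.assoc]

/-- transfer of bijectivity along a map inducing an iso on `H⁰` and a bijection on `Hom(-, E[0])` -/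
lemma bijective_homToH0_iff {X' X : DerivedCategory (ModuleCat.{u} A)} (u : X' ⟶ X) (E : ModuleCat.{u} A)
    (h0 : IsIso ((homologyFunctor (ModuleCat.{u} A) 0).map u))
    (hu : Function.Bijective (fun φ : X ⟶ (singleFunctor (ModuleCat.{u} A) 0).obj E => u ≫ φ)) :
    Function.Bijective (homToH0 X' E) ↔ Function.Bijective (homToH0 X E) := by
  have hb : Function.Bijective (fun ψ : (homologyFunctor (ModuleCat.{u} A) 0).obj X ⟶ E => (homologyFunctor (ModuleCat.{u} A) 0).map u ≫ ψ) :=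
    ⟨fun _ _ h => (cancel_epi _).1 h, fun ψ => ⟨inv ((homologyFunctor (ModuleCat.{u} A) 0).map u) ≫ ψ, by simp⟩⟩
  have key : (homToH0 X' E) ∘ (fun φ : X ⟶ (singleFunctor (ModuleCat.{u} A) 0).obj E => u ≫ φ) =
      (fun ψ : (homologyFunctor (ModuleCat.{u} A) 0).obj X ⟶ E => (homologyFunctor (ModuleCat.{u} A) 0).map u ≫ ψ) ∘ (homToH0 X E) := by
    funext φ
    exact homToH0_naturality u E φ
  constructor
  · intro h
    have h1 : Function.Bijective ((fun ψ : (homologyFunctor (ModuleCat.{u} A) 0).obj X ⟶ E => (homologyFunctor (ModuleCat.{u} A) 0).map u ≫ ψ) ∘ (homToH0 X E)) := by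
      rw [← key]
      exact h.comp hu
    exact (Function.Bijective.of_comp_iff' hb _).1 h1
  · intro h
    have h1 : Function.Bijective ((homToH0 X' E) ∘ (fun φ : X ⟶ (singleFunctor (ModuleCat.{u} A) 0).obj E => u ≫ φ)) := by
      rw [key]
      exact hb.comp h
    exact (Function.Bijective.of_comp_iff _ hu).1 h1

/-- the case of a module in degree `0` -/
lemma bijective_homToH0_single (N E : ModuleCat.{u} A) :
    Function.Bijective (homToH0 ((singleFunctor (ModuleCat.{u} A) 0).obj N) E) := by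
  have h1 : Function.Bijective (fun ψ : N ⟶ E => (singleFunctor (ModuleCat.{u} A) 0).map ψ) :=
    (Functor.FullyFaithful.ofFullyFaithful (singleFunctor (ModuleCat.{u} A) 0)).map_bijective N E
  have h2 : Function.Bijective (fun ψ : N ⟶ E =>
      (singleFunctorCompHomologyFunctorIso (ModuleCat.{u} A) 0).hom.app N ≫ ψ) :=
    ⟨fun _ _ h => (cancel_epi _).1 h,
      fun ψ => ⟨(singleFunctorCompHomologyFunctorIso (ModuleCat.{u} A) 0).inv.app N ≫ ψ, by simp⟩⟩
  have key : (homToH0 ((singleFunctor (ModuleCat.{u} A) 0).obj N) E) ∘ (fun ψ : N ⟶ E => (singleFunctor (ModuleCat.{u} A) 0).map ψ) =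
      (fun ψ : N ⟶ E =>
        (singleFunctorCompHomologyFunctorIso (ModuleCat.{u} A) 0).hom.app N ≫ ψ) := by
    funext ψ
    have nat := (singleFunctorCompHomologyFunctorIso (ModuleCat.{u} A) 0).hom.naturality ψ
    simp only [Functor.comp_map, Functor.id_map] at nat
    exact nat
  have h3 : Function.Bijective ((homToH0 ((singleFunctor (ModuleCat.{u} A) 0).obj N) E) ∘ (fun ψ : N ⟶ E => (singleFunctor (ModuleCat.{u} A) 0).map ψ)) := by
    rw [key]
    exact h2
  exact (Function.Bijective.of_comp_iff _ h1).1 h3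

/-- objects in the heart -/
lemma bijective_homToH0_of_heart (Z : DerivedCategory (ModuleCat.{u} A)) [Z.IsGE 0] [Z.IsLE 0] (E : ModuleCat.{u} A) :
    Function.Bijective (homToH0 Z E) := by
  obtain ⟨N, ⟨e⟩⟩ := exists_iso_singleFunctor_obj_of_isGE_of_isLE Z 0
  refine (bijective_homToH0_iff e.hom E inferInstance ?_).2 (bijective_homToH0_single N E)
  exact ⟨fun _ _ h => (cancel_epi e.hom).1 h, fun φ => ⟨e.inv ≫ φ, by simp⟩⟩

/-- `H⁰(X) → H⁰(τ≥0 X)` is an isomorphism -/
lemma isIso_H0_map_truncGEπ (X : DerivedCategory (ModuleCat.{u} A)) : IsIso ((homologyFunctor (ModuleCat.{u} A) 0).map ((tS A).truncGEπ 0 |>.app X)) := by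
  have hT := (tS A).triangleLTGE_distinguished 0 X
  have hLE : ((tS A).truncLT 0).obj X |>.IsLE (-1) := by
    have : (tS A).IsLE (((tS A).truncLT 0).obj X) (0 - 1) := inferInstance
    exact this
  have hz0 : IsZero ((homologyFunctor (ModuleCat.{u} A) 0).obj (((tS A).truncLT 0).obj X)) :=
    isZero_of_isLE _ (-1) 0 (by omega)
  have hz1 : IsZero ((homologyFunctor (ModuleCat.{u} A) 1).obj (((tS A).truncLT 0).obj X)) :=
    isZero_of_isLE _ (-1) 1 (by omega)
  have hm : Mono ((homologyFunctor (ModuleCat.{u} A) 0).map ((tS A).truncGEπ 0 |>.app X)) :=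
    (HomologySequence.mono_homologyMap_mor₂_iff _ hT 0).2 (hz0.eq_of_src _ _)
  have he : Epi ((homologyFunctor (ModuleCat.{u} A) 0).map ((tS A).truncGEπ 0 |>.app X)) :=
    (HomologySequence.epi_homologyMap_mor₂_iff _ hT 0 1 (by omega)).2 (hz1.eq_of_tgt _ _)
  exact isIso_of_mono_of_epi _

/-- `H⁰(τ≤0 Y) → H⁰(Y)` is an isomorphism -/
lemma isIso_H0_map_truncLEι (Y : DerivedCategory (ModuleCat.{u} A)) : IsIso ((homologyFunctor (ModuleCat.{u} A) 0).map ((tS A).truncLEι 0 |>.app Y)) := by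
  have hT := (tS A).triangleLEGT_distinguished 0 Y
  have hGE : (((tS A).truncGT 0).obj Y).IsGE 1 := by
    have : (tS A).IsGE (((tS A).truncGT 0).obj Y) (0 + 1) := inferInstance
    exact this
  have hz0 : IsZero ((homologyFunctor (ModuleCat.{u} A) 0).obj (((tS A).truncGT 0).obj Y)) :=
    isZero_of_isGE _ 1 0 (by omega)
  have hz1 : IsZero ((homologyFunctor (ModuleCat.{u} A) (-1)).obj (((tS A).truncGT 0).obj Y)) :=
    isZero_of_isGE _ 1 (-1) (by omega)
  have he : Epi ((homologyFunctor (ModuleCat.{u} A) 0).map ((tS A).truncLEι 0 |>.app Y)) :=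
    (HomologySequence.epi_homologyMap_mor₁_iff _ hT 0).2 (hz0.eq_of_tgt _ _)
  have hm : Mono ((homologyFunctor (ModuleCat.{u} A) 0).map ((tS A).truncLEι 0 |>.app Y)) :=
    (HomologySequence.mono_homologyMap_mor₁_iff _ hT (-1) 0 (by omega)).2 (hz1.eq_of_src _ _)
  exact isIso_of_mono_of_epi _

/-- `Hom(τ≥0 X, M) ≃ Hom(X, M)` for `M ∈ D^{≥0}` -/
lemma bijective_truncGEπ_comp (X M : DerivedCategory (ModuleCat.{u} A)) [M.IsGE 0] :
    Function.Bijective (fun φ : ((tS A).truncGE 0).obj X ⟶ M => ((tS A).truncGEπ 0).app X ≫ φ) :=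
  ⟨fun _ _ h => (tS A).from_truncGE_obj_ext h,
    fun φ => ⟨(tS A).descTruncGE φ 0, (tS A).π_descTruncGE φ 0⟩⟩

/-- `Hom(Y, E[0]) ≃ Hom(τ≤0 Y, E[0])` for `E` injective -/
lemma bijective_truncLEι_comp (Y : DerivedCategory (ModuleCat.{u} A)) (E : ModuleCat.{u} A) [Injective E] :
    Function.Bijective (fun φ : Y ⟶ (singleFunctor (ModuleCat.{u} A) 0).obj E => ((tS A).truncLEι 0).app Y ≫ φ) := by
  have hT := (tS A).triangleLEGT_distinguished 0 Y
  have hGE : (((tS A).truncGT 0).obj Y).IsGE 1 := by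
    have : (tS A).IsGE (((tS A).truncGT 0).obj Y) (0 + 1) := inferInstance
    exact this
  constructor
  · intro φ φ' h
    have h0 : ((tS A).truncLEι 0).app Y ≫ (φ - φ') = 0 := by
      rw [Preadditive.comp_sub, sub_eq_zero]
      exact h
    obtain ⟨ψ, hψ⟩ := Triangle.yoneda_exact₂ _ hT (φ - φ') h0
    haveI : (((tS A).triangleLEGT 0).obj Y).obj₃.IsGE 1 := hGE
    have hψ0 : ψ = 0 :=
      Groth.Agent.H16.TwoTerm.hom_to_single_injective_eq_zero _ 1 0 (by omega) E ψ
    rw [hψ0, comp_zero] at hψ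
    exact sub_eq_zero.1 hψ
  · intro ψ
    have hGE2 : ((((tS A).truncGT 0).obj Y)⟦(-1 : ℤ)⟧).IsGE 2 :=
      (tS A).isGE_shift _ 1 (-1) 2 (by omega)
    haveI : (((tS A).triangleLEGT 0).obj Y).invRotate.obj₁.IsGE 2 := hGE2
    obtain ⟨φ, hφ⟩ := Triangle.yoneda_exact₂ _ (inv_rot_of_distTriang _ hT) ψ
      (Groth.Agent.H16.TwoTerm.hom_to_single_injective_eq_zero _ 2 0 (by omega) E _)
    exact ⟨φ, hφ.symm⟩

/-- **`Hom_{D(A)}(X, E[0]) ≃ Hom_A(H⁰ X, E)`** for `E` injective -/
theorem bijective_homToH0 (X : DerivedCategory (ModuleCat.{u} A)) (E : ModuleCat.{u} A) [Injective E] :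
    Function.Bijective (homToH0 X E) := by
  let X' := ((tS A).truncGE 0).obj X
  let Z := ((tS A).truncLE 0).obj X'
  haveI : X'.IsGE 0 := inferInstanceAs ((tS A).IsGE (((tS A).truncGE 0).obj X) 0)
  haveI : Z.IsGE 0 := inferInstanceAs ((tS A).IsGE (((tS A).truncLE 0).obj X') 0)
  haveI : Z.IsLE 0 := inferInstanceAs ((tS A).IsLE (((tS A).truncLE 0).obj X') 0)
  have hZ := bijective_homToH0_of_heart Z E
  have hX' : Function.Bijective (homToH0 X' E) :=
    (bijective_homToH0_iff (((tS A).truncLEι 0).app X') E (isIso_H0_map_truncLEι X')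
      (bijective_truncLEι_comp X' E)).1 hZ
  exact (bijective_homToH0_iff (((tS A).truncGEπ 0).app X) E (isIso_H0_map_truncGEπ X)
    (bijective_truncGEπ_comp X ((singleFunctor (ModuleCat.{u} A) 0).obj E))).2 hX'

/-- the linear equivalence -/
noncomputable def homToH0Equiv (X : DerivedCategory (ModuleCat.{u} A)) (E : ModuleCat.{u} A) [Injective E] :
    (X ⟶ (singleFunctor (ModuleCat.{u} A) 0).obj E) ≃ₗ[A] ((homologyFunctor (ModuleCat.{u} A) 0).obj X ⟶ E) :=
  LinearEquiv.ofBijective (homToH0 X E) (bijective_homToH0 X E)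

end Groth.Agent.H9.LD
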