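import Mathlib
import Groth.Agent.H30.Matlis

/-!
# Annihilators of adic completions and of Matlis duals (helper9)
-/

set_option autoImplicit false
universe v u

namespace Groth.Agent.H9.LD

open IsLocalRing

variable {A : Type u} [CommRing A] [IsLocalRing A]

/-- the annihilator of the `𝔪`-adic completion of a finite module over a Noetherian local ring -/
theorem annihilator_adicCompletion [IsNoetherianRing A] (N : Type v) [AddCommGroup N] [Module A N]
    [Module.Finite A N] :
    Module.annihilator A (AdicCompletion (maximalIdeal A) N) = Module.annihilator A N := by
  ext a
  rw [Module.mem_annihilator, Module.mem_annihilator]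
  constructor
  · intro h x
    apply AdicCompletion.of_injective (maximalIdeal A) N
    rw [map_smul, h, map_zero]
  · intro h x
    apply AdicCompletion.ext
    intro k
    obtain ⟨y, hy⟩ := Submodule.Quotient.mk_surjective _ (x.val k)
    rw [AdicCompletion.val_smul_apply, ← hy, ← Submodule.Quotient.mk_smul, h]
    rfl

/-- the annihilator of the Matlis dual -/
theorem annihilator_dual {E : Type u} [AddCommGroup E] [Module A E]
    (f : ResidueField A →ₗ[A] E) (hf : InjHull.IsInjectiveHull f)
    (H : Type u) [AddCommGroup H] [Module A H] :
    Module.annihilator A (H →ₗ[A] E) = Module.annihilator A H := by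
  ext a
  rw [Module.mem_annihilator, Module.mem_annihilator]
  constructor
  · intro h x
    apply Groth.Agent.H30.Matlis.applyₗ_injective f hf H
    rw [map_zero]
    apply LinearMap.ext
    intro φ
    have := congrArg (fun ψ : H →ₗ[A] E => ψ x) (h φ)
    simpa using this
  · intro h φ
    apply LinearMap.ext
    intro x
    rw [LinearMap.smul_apply, ← map_smul, h, map_zero, LinearMap.zero_apply]

end Groth.Agent.H9.LD
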