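import Mathlib
import Groth.Agent.H9.LD.HomToInjective
import Groth.Prelude.Def_Wider

/-!
# `Hom_{D(A)}(X, E[n]) ≃ Hom_A(H^{-n}(X), E)` for an injective module `E`
-/

set_option autoImplicit false
universe u

open CategoryTheory CategoryTheory.Limits CategoryTheory.Pretriangulated DerivedCategory

attribute [local instance] HasDerivedCategory.standard

namespace Groth.Agent.H9.LD

variable {A : Type u} [CommRing A]

/-- `Hom(X, S⟦n⟧) ≃ Hom(X⟦m⟧, S)` for `n + m = 0`, linearly -/
noncomputable def shiftHomEquiv (X S : Dual.D A) (n m : ℤ) (h : n + m = 0) :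
    (X ⟶ S⟦n⟧) ≃ₗ[A] (X⟦m⟧ ⟶ S) :=
  LinearEquiv.ofBijective
    { toFun := fun g => g⟦m⟧' ≫ (shiftFunctorCompIsoId (Dual.D A) n m h).hom.app S
      map_add' := fun g g' => by rw [Functor.map_add, Preadditive.add_comp]
      map_smul' := fun a g => by rw [Functor.map_smul, Linear.smul_comp]; rfl }
    (by
      have h1 : Function.Bijective (fun g : X ⟶ S⟦n⟧ => g⟦m⟧') :=
        (Functor.FullyFaithful.ofFullyFaithful (shiftFunctor (Dual.D A) m)).map_bijective _ _
      have h2 : Function.Bijective (fun k : X⟦m⟧ ⟶ (S⟦n⟧)⟦m⟧ =>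
          k ≫ (shiftFunctorCompIsoId (Dual.D A) n m h).hom.app S) :=
        ⟨fun _ _ hk => (cancel_mono _).1 hk,
          fun k => ⟨k ≫ (shiftFunctorCompIsoId (Dual.D A) n m h).inv.app S, by simp⟩⟩
      exact h2.comp h1)

lemma shiftHomEquiv_apply (X S : Dual.D A) (n m : ℤ) (h : n + m = 0) (g : X ⟶ S⟦n⟧) :
    shiftHomEquiv X S n m h g = g⟦m⟧' ≫ (shiftFunctorCompIsoId (Dual.D A) n m h).hom.app S := rfl

/-- **`Hom_{D(A)}(X, E[n]) ≃ Hom_A(H^m(X), E)`** for `E` injective, `n + m = 0` -/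
noncomputable def homToInjEquiv (X : Dual.D A) (E : Type u) [AddCommGroup E] [Module A E]
    [Module.Injective A E] (n m : ℤ) (h : n + m = 0) :
    (X ⟶ (Dual.inD A E)⟦n⟧) ≃ₗ[A] (Dual.HD A X m →ₗ[A] E) :=
  haveI : Injective (ModuleCat.of A E) := Module.injective_object_of_injective_module A E
  (shiftHomEquiv X (Dual.inD A E) n m h).trans
    ((homToH0Equiv (X⟦m⟧) (ModuleCat.of A E)).trans
      ((Linear.homCongr A
        (((homologyFunctor (ModuleCat.{u} A) 0).shiftIso m 0 m (by simp)).app X)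
        (Iso.refl (ModuleCat.of A E))).trans ModuleCat.homLinearEquiv))

end Groth.Agent.H9.LD
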