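import Mathlib
import Groth.Agent.H9.DCF.Bounded
import Groth.Agent.H9.LD.HomToInjShift
import Groth.Agent.H2.DualCx.Finite

/-!
# Finiteness of `Hom_{D(A)}(K, W[j])` for `K` bounded with finite cohomology (helper9)
-/

set_option autoImplicit false
universe u

open CategoryTheory CategoryTheory.Limits CategoryTheory.Pretriangulated DerivedCategory

attribute [local instance] HasDerivedCategory.standard

namespace Groth.Agent.H9.LD

open Groth.Agent.H9.DCF

variable {A : Type u} [CommRing A] [IsNoetherianRing A] (W : Dual.D A) (a : ℤ)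
  (hlow : ∀ (M : Type u) [AddCommGroup M] [Module A M] (i : ℤ), i < a →
    Subsingleton (Dual.inD A M ⟶ W⟦i⟧))
  (hfin : ∀ i : ℤ, Module.Finite A (Dual.HD A W i))

include hlow hfin in
/-- heart case -/
theorem finite_hom_of_heart (Y : Dual.D A) (b : ℤ) [Y.IsGE b] [Y.IsLE b]
    (hY : Module.Finite A (Dual.HD A Y b)) (j : ℤ) : Module.Finite A (Y ⟶ W⟦j⟧) := by
  obtain ⟨M, ⟨e⟩, ⟨e'⟩⟩ := nonempty_iso_single_shift Y b
  haveI : Module.Finite A M := Module.Finite.equiv e'.toLinearEquiv.symm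
  haveI : Module.Finite A (Dual.inD A M ⟶ W⟦j + b⟧) :=
    Groth.Agent.H2.DualCx.finite_T W a hlow hfin (j + b) M
  have e1 : (Dual.inD A M ⟶ W⟦j + b⟧) ≃ₗ[A] (Dual.inD A M ⟶ (W⟦j⟧)⟦b⟧) :=
    Linear.homCongr A (Iso.refl _) ((shiftFunctorAdd' (Dual.D A) j b (j + b) rfl).app W)
  have e2 : (Dual.inD A M ⟶ (W⟦j⟧)⟦b⟧) ≃ₗ[A] ((Dual.inD A M)⟦-b⟧ ⟶ W⟦j⟧) :=
    shiftHomEquiv (Dual.inD A M) (W⟦j⟧) b (-b) (by omega)
  have e3 : ((Dual.inD A M)⟦-b⟧ ⟶ W⟦j⟧) ≃ₗ[A] (Y ⟶ W⟦j⟧) :=
    Linear.homCongr A e.symm (Iso.refl _)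
  exact Module.Finite.equiv (e1.trans (e2.trans e3))

omit [IsNoetherianRing A] in
/-- triangle step -/
theorem ker_le_range_of_triangle {X K Y : Dual.D A} (φ : X ⟶ K) (g : K ⟶ Y)
    (h : Y ⟶ X⟦(1 : ℤ)⟧) (hT : Triangle.mk φ g h ∈ distTriang (Dual.D A)) (Z : Dual.D A) :
    LinearMap.ker (Linear.leftComp A Z φ) ≤ LinearMap.range (Linear.leftComp A Z g) := by
  intro t ht
  rw [LinearMap.mem_ker] at ht
  obtain ⟨s, hs⟩ := Triangle.yoneda_exact₂ _ hT t ht
  exact ⟨s, hs.symm⟩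

include hlow hfin in
/-- induction on the amplitude -/
theorem finite_hom_of_amplitude : ∀ (k : ℕ) (b : ℤ) (K : Dual.D A), K.IsLE b → K.IsGE (b - k) →
    (∀ n : ℤ, Module.Finite A (Dual.HD A K n)) → ∀ j : ℤ, Module.Finite A (K ⟶ W⟦j⟧) := by
  intro k
  induction k with
  | zero =>
    intro b K hLE hGE hK j
    haveI := hLE
    haveI : K.IsGE b := by
      have : b - ((0 : ℕ) : ℤ) = b := by simp
      rw [this] at hGE
      exact hGE
    exact finite_hom_of_heart W a hlow hfin K b (hK b) j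
  | succ k ih =>
    intro b K hLE hGE hK j
    haveI := hLE
    haveI := hGE
    have hT := (tS A).triangleLEGE_distinguished (b - 1) b (by omega) K
    let X := ((tS A).truncLE (b - 1)).obj K
    let Y := ((tS A).truncGE b).obj K
    haveI hXLE : X.IsLE (b - 1) :=
      inferInstanceAs ((tS A).IsLE (((tS A).truncLE (b - 1)).obj K) (b - 1))
    haveI hXGE : X.IsGE (b - 1 - k) := by
      haveI : (tS A).IsGE K (b - 1 - k) := by
        have : b - ((k + 1 : ℕ) : ℤ) = b - 1 - k := by push_cast; ring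
        rw [this] at hGE
        exact hGE
      exact inferInstanceAs ((tS A).IsGE (((tS A).truncLE (b - 1)).obj K) (b - 1 - k))
    haveI hYGE : Y.IsGE b := inferInstanceAs ((tS A).IsGE (((tS A).truncGE b).obj K) b)
    haveI hYLE : Y.IsLE b := by
      haveI : (tS A).IsLE K b := hLE
      exact inferInstanceAs ((tS A).IsLE (((tS A).truncGE b).obj K) b)
    haveI pX : Module.Finite A (X ⟶ W⟦j⟧) :=
      ih (b - 1) X hXLE hXGE (finite_HD_truncLE K hK (b - 1)) j
    haveI pY : Module.Finite A (Y ⟶ W⟦j⟧) :=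
      finite_hom_of_heart W a hlow hfin Y b (finite_HD_truncGE K hK b b) j
    exact Groth.Agent.H2.DualCx.finite_of_ker_le_range _ _
      (ker_le_range_of_triangle _ _ _ hT (W⟦j⟧))

include hlow hfin in
/-- **finiteness of `Hom(K, W[j])`** for bounded `K` with finite cohomology -/
theorem finite_hom_of_bounded (K : Dual.D A) (hK : ∀ n : ℤ, Module.Finite A (Dual.HD A K n))
    (hbd : ∃ c d : ℤ, ∀ i : ℤ, (i < c ∨ d < i) → Subsingleton (Dual.HD A K i)) (j : ℤ) :
    Module.Finite A (K ⟶ W⟦j⟧) := by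
  obtain ⟨c, d, hcd⟩ := hbd
  have hGE : K.IsGE c := by
    rw [isGE_iff]
    intro i hi
    haveI := hcd i (Or.inl hi)
    exact ModuleCat.isZero_of_subsingleton _
  have hLE : K.IsLE d := by
    rw [isLE_iff]
    intro i hi
    haveI := hcd i (Or.inr hi)
    exact ModuleCat.isZero_of_subsingleton _
  by_cases hcd' : c ≤ d
  · obtain ⟨k, hk⟩ := Int.eq_ofNat_of_zero_le (by omega : 0 ≤ d - c)
    have hGE' : K.IsGE (d - (k : ℕ)) := by
      have : d - ((k : ℕ) : ℤ) = c := by omega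
      rw [this]
      exact hGE
    exact finite_hom_of_amplitude W a hlow hfin k d K hLE hGE' hK j
  · have hGE' : K.IsGE (d - ((0 : ℕ) : ℤ)) := by
      haveI := hGE
      exact (tS A).isGE_of_ge K (d - ((0 : ℕ) : ℤ)) c (by push_cast; omega)
    exact finite_hom_of_amplitude W a hlow hfin 0 d K hLE hGE' hK j

end Groth.Agent.H9.LD
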