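import Mathlib
import Groth.Agent.H84.RHomUnit
import Groth.Agent.H9.DC.LocEq

/-!
# Quasi-isomorphism criteria for maps of Hom complexes, in terms of `D(A)`

For K-injective targets, `Hom•(s, I)` (resp. `Hom•(E, f)`) is a quasi-isomorphism as soon as `Q s`
(resp. `Q f`) induces bijections on the relevant morphism sets of `D(A)`.
-/

set_option autoImplicit false
universe v' u' u

open CategoryTheory CategoryTheory.Limits

attribute [local instance] HasDerivedCategory.standard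

namespace Groth.Agent.H9.LD

open DerivedCategory Groth.Agent.H84.RHom Groth.Agent.H9.DC

section Shift

variable {T : Type u'} [Category.{v'} T] [HasShift T ℤ]

/-- postcomposition with `φ⟦n⟧` on `Hom(X, -⟦n⟧)` is bijective if postcomposition with `φ` on
`Hom(X⟦-n⟧, -)` is -/
lemma bijective_postcomp_shift {X Y Y' : T} (φ : Y ⟶ Y') (n : ℤ)
    (h : Function.Bijective (fun g : X⟦-n⟧ ⟶ Y => g ≫ φ)) :
    Function.Bijective (fun g : X ⟶ Y⟦n⟧ => g ≫ φ⟦n⟧') := by
  let S := shiftFunctor T n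
  let c : (X⟦-n⟧)⟦n⟧ ≅ X := (shiftFunctorCompIsoId T (-n) n (by omega)).app X
  constructor
  · intro g₁ g₂ hg
    have h1 : S.preimage (c.hom ≫ g₁) ≫ φ = S.preimage (c.hom ≫ g₂) ≫ φ := by
      apply S.map_injective
      rw [Functor.map_comp, Functor.map_comp, Functor.map_preimage, Functor.map_preimage,
        Category.assoc, Category.assoc]
      exact congrArg (c.hom ≫ ·) hg
    have h2 := h.1 h1
    have h3 := congrArg S.map h2
    rw [Functor.map_preimage, Functor.map_preimage] at h3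
    exact (cancel_epi c.hom).1 h3
  · intro g'
    obtain ⟨ĝ, hĝ⟩ := h.2 (S.preimage (c.hom ≫ g'))
    refine ⟨c.inv ≫ S.map ĝ, ?_⟩
    show (c.inv ≫ S.map ĝ) ≫ S.map φ = g'
    rw [Category.assoc, ← Functor.map_comp]
    have : ĝ ≫ φ = S.preimage (c.hom ≫ g') := hĝ
    rw [this, Functor.map_preimage, Iso.inv_hom_id_assoc]

end Shift

variable {A : Type u} [CommRing A]

/-- `Hom•(s, I)` is a quasi-isomorphism if `Q s` induces bijections on `Hom_{D(A)}(-, Q(I⟦n⟧))` -/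
theorem quasiIso_homCxPre_of_bijective {X X' : DRing.Cx A} (s : X ⟶ X') (I : DRing.Cx A)
    [I.IsKInjective]
    (H : ∀ n : ℤ, Function.Bijective (fun g : Q.obj X' ⟶ Q.obj (I⟦n⟧) => Q.map s ≫ g)) :
    QuasiIso (homCxPre s I) := by
  refine quasiIso_homCxPre s I (fun n => ?_)
  have hb := fun K => CochainComplex.IsKInjective.Qh_map_bijective K (I⟦n⟧)
  constructor
  · intro g₁ g₂ h
    apply (hb _).1
    apply (H n).1
    have := congrArg DerivedCategory.Qh.map h
    simp only [Functor.map_comp] at this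
    exact this
  · intro g
    obtain ⟨g', hg'⟩ := (H n).2 (DerivedCategory.Qh.map g)
    obtain ⟨g'', hg''⟩ := (hb ((Hq A).obj X')).2 g'
    refine ⟨g'', (hb ((Hq A).obj X)).1 ?_⟩
    have h1 : DerivedCategory.Qh.map ((Hq A).map s ≫ g'') =
        DerivedCategory.Qh.map ((Hq A).map s) ≫ DerivedCategory.Qh.map g'' :=
      Functor.map_comp _ _ _
    refine h1.trans ?_
    rw [hg'']
    exact hg'

/-- `Hom•(E, f)` is a quasi-isomorphism if `Q (f⟦n⟧)` induces bijections on `Hom_{D(A)}(Q E, -)` -/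
theorem quasiIso_homCxMap_of_bijective (E : DRing.Cx A) {L L' : DRing.Cx A} (f : L ⟶ L')
    [L.IsKInjective] [L'.IsKInjective]
    (H : ∀ n : ℤ, Function.Bijective (fun g : Q.obj E ⟶ Q.obj (L⟦n⟧) => g ≫ Q.map (f⟦n⟧'))) :
    QuasiIso (DRing.homCxMap E f) := by
  refine quasiIso_homCxMap E f (fun n => ?_)
  have hb := CochainComplex.IsKInjective.Qh_map_bijective ((Hq A).obj E) (L⟦n⟧)
  have hb' := CochainComplex.IsKInjective.Qh_map_bijective ((Hq A).obj E) (L'⟦n⟧)
  constructor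
  · intro g₁ g₂ h
    apply hb.1
    apply (H n).1
    have := congrArg DerivedCategory.Qh.map h
    simp only [Functor.map_comp] at this
    exact this
  · intro g
    obtain ⟨g', hg'⟩ := (H n).2 (DerivedCategory.Qh.map g)
    obtain ⟨g'', hg''⟩ := hb.2 g'
    refine ⟨g'', hb'.1 ?_⟩
    have h1 : DerivedCategory.Qh.map (g'' ≫ (Hq A).map (f⟦n⟧')) =
        DerivedCategory.Qh.map g'' ≫ DerivedCategory.Qh.map ((Hq A).map (f⟦n⟧')) :=
      Functor.map_comp _ _ _
    refine h1.trans ?_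
    rw [hg'']
    exact hg'

/-- `LocEq` form of the criterion for `Hom•(s, I)` -/
theorem quasiIso_homCxPre_of_locEq {X X' : DRing.Cx A} (s : X ⟶ X') (I : DRing.Cx A)
    [I.IsKInjective] (P : Dual.D A → Prop) (hs : LocEq P (Q.map s))
    (hI : ∀ n : ℤ, P ((Q.obj I)⟦n⟧)) (hP : ∀ {M M' : Dual.D A}, (M ≅ M') → P M → P M') :
    QuasiIso (homCxPre s I) :=
  quasiIso_homCxPre_of_bijective s I
    (fun n => hs _ (hP ((Q.commShiftIso n).app I).symm (hI n)))

/-- co-local form of the criterion for `Hom•(E, f)` -/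
theorem quasiIso_homCxMap_of_coLocal (E : DRing.Cx A) {L L' : DRing.Cx A} (f : L ⟶ L')
    [L.IsKInjective] [L'.IsKInjective] (P : Dual.D A → Prop)
    (hf : ∀ G : Dual.D A, P G → Function.Bijective (fun g : G ⟶ Q.obj L => g ≫ Q.map f))
    (hE : ∀ n : ℤ, P ((Q.obj E)⟦n⟧)) : QuasiIso (DRing.homCxMap E f) := by
  refine quasiIso_homCxMap_of_bijective E f (fun n => ?_)
  have h1 := bijective_postcomp_shift (X := Q.obj E) (Q.map f) n (hf _ (hE (-n)))
  let a : Q.obj (L⟦n⟧) ≅ (Q.obj L)⟦n⟧ := (Q.commShiftIso n).app L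
  let a' : Q.obj (L'⟦n⟧) ≅ (Q.obj L')⟦n⟧ := (Q.commShiftIso n).app L'
  have nat : Q.map (f⟦n⟧') ≫ a'.hom = a.hom ≫ (Q.map f)⟦n⟧' :=
    (Q.commShiftIso n).hom.naturality f
  have key : (fun g : Q.obj E ⟶ Q.obj (L⟦n⟧) => g ≫ Q.map (f⟦n⟧')) =
      (fun g : Q.obj E ⟶ (Q.obj L')⟦n⟧ => g ≫ a'.inv) ∘
        (fun g : Q.obj E ⟶ (Q.obj L)⟦n⟧ => g ≫ (Q.map f)⟦n⟧') ∘
        (fun g : Q.obj E ⟶ Q.obj (L⟦n⟧) => g ≫ a.hom) := by
    funext g
    have nat' : Q.map (f⟦n⟧') = a.hom ≫ (Q.map f)⟦n⟧' ≫ a'.inv := by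
      rw [← Category.assoc, ← nat, Category.assoc, Iso.hom_inv_id, Category.comp_id]
    show g ≫ Q.map (f⟦n⟧') = ((g ≫ a.hom) ≫ (Q.map f)⟦n⟧') ≫ a'.inv
    rw [nat']
    simp only [Category.assoc]
  rw [key]
  refine Function.Bijective.comp ?_ (Function.Bijective.comp h1 ?_)
  · exact ⟨fun g g' h => (cancel_mono a'.inv).1 h, fun g => ⟨g ≫ a'.hom, by simp⟩⟩
  · exact ⟨fun g g' h => (cancel_mono a.hom).1 h, fun g => ⟨g ≫ a.inv, by simp⟩⟩

end Groth.Agent.H9.LD
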