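import Groth.Agent.H9.LD.LCDualizing

/-!
# `RΓ_𝔪(ω) ≅ E[0]` for a normalized dualizing complex
-/

set_option autoImplicit false
universe u
open CategoryTheory CategoryTheory.Limits Opposite IsLocalRing

attribute [local instance] HasDerivedCategory.standard

namespace Groth.Agent.H9.LD

open Groth.Agent.H9.RG DerivedCategory

/-- an object of `D(A)` with cohomology `E` in degree `0` and nothing else is `E[0]` -/
theorem nonempty_iso_inD_of_HD {A : Type u} [CommRing A] (X : Dual.D A) (E : Type u) [AddCommGroup E]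
    [Module A E] (h0 : Nonempty (Dual.HD A X 0 ≃ₗ[A] E))
    (hne : ∀ i : ℤ, i ≠ 0 → Subsingleton (Dual.HD A X i)) : Nonempty (X ≅ Dual.inD A E) := by
  have hz : ∀ i : ℤ, i ≠ 0 → IsZero ((homologyFunctor (ModuleCat.{u} A) i).obj X) := by
    intro i hi
    haveI := hne i hi
    exact ModuleCat.isZero_of_subsingleton _
  haveI : X.IsGE 0 := (isGE_iff X 0).2 (fun i hi => hz i (by omega))
  haveI : X.IsLE 0 := (isLE_iff X 0).2 (fun i hi => hz i (by omega))
  obtain ⟨Y, ⟨e⟩⟩ := exists_iso_singleFunctor_obj_of_isGE_of_isLE X 0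
  obtain ⟨e0⟩ := h0
  let e1 : (homologyFunctor (ModuleCat.{u} A) 0).obj X ≅ Y :=
    (homologyFunctor (ModuleCat.{u} A) 0).mapIso e ≪≫
      (singleFunctorCompHomologyFunctorIso (ModuleCat.{u} A) 0).app Y
  let e2 : Y ≅ ModuleCat.of A E := e1.symm ≪≫ e0.toModuleIso
  exact ⟨e ≪≫ (singleFunctor (ModuleCat.{u} A) 0).mapIso e2⟩

variable {A : Type u} [CommRing A] [IsLocalRing A] [IsNoetherianRing A]

/-- `RΓ_𝔪(ω) ≅ E[0]` -/
theorem nonempty_RgammaI_iso_inD [DRing.HasRgammaI (maximalIdeal A)] (ω : Dual.D A)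
    (hω : Dual.IsDualizing A ω) (hn : Dual.IsNormalized A ω) (E : Type u) [AddCommGroup E]
    [Module A E] (f : ResidueField A →ₗ[A] E) (hf : InjHull.IsInjectiveHull f) :
    Nonempty ((DRing.RgammaI (maximalIdeal A)).obj ω ≅ Dual.inD A E) := by
  obtain ⟨⟨e0⟩, hne⟩ := localCohomology_normalized_dualizing ω hω hn E f hf
  apply nonempty_iso_inD_of_HD
  · obtain ⟨e1⟩ := nonempty_hd_equiv_hdi (maximalIdeal A) 0 ω
    exact ⟨e1.trans e0⟩
  · intro i hi
    obtain ⟨e1⟩ := nonempty_hd_equiv_hdi (maximalIdeal A) i ω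
    haveI := hne i hi
    exact e1.toEquiv.subsingleton

end Groth.Agent.H9.LD
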