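import Mathlib
import Groth.Agent.H9.DC.RHomComp
import Groth.Agent.H9.LD.HomQis
import Groth.Agent.H9.LD.TorsionHom
import Groth.Agent.H9.LD.RGammaOmega

/-!
# Greenlees–May duality for `RHom`, and derived local duality

`RHom(K, L)^∧ ≅ RHom(RΓ_I K, RΓ_I L)` over a Noetherian ring; for a normalized dualizing complex
`ω` over a Noetherian local ring, `RHom(K, ω)^∧ ≅ RHom(RΓ_𝔪 K, E[0])`.
-/

set_option autoImplicit false
universe u

open CategoryTheory CategoryTheory.Limits CategoryTheory.Pretriangulated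

attribute [local instance] HasDerivedCategory.standard

namespace Groth.Agent.H9.LD

open DerivedCategory Groth.Agent.H9.RG Groth.Agent.H9.DC Groth.Agent.H84.RHom

section Aux

variable {T : Type*} [Category T]

lemma bijective_postcomp_iso {X Y Y' : T} (e : Y ≅ Y') :
    Function.Bijective (fun g : X ⟶ Y => g ≫ e.hom) :=
  ⟨fun _ _ h => (cancel_mono e.hom).1 h, fun g => ⟨g ≫ e.inv, by simp⟩⟩

end Aux

variable {A : Type u} [CommRing A]

lemma isDerivedComplete_of_iso (I : Ideal A) {M M' : Dual.D A} (e : M ≅ M')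
    (h : DRing.IsDerivedComplete I M) : DRing.IsDerivedComplete I M' := by
  rw [isDerivedComplete_iff_perp] at h ⊢
  intro f hf
  exact (h f hf).of_iso e

variable [IsNoetherianRing A] (I : Ideal A) [DRing.HasRgammaI I] [DRing.HasDerivedCompletion I]
  (K G : Cx A) [DRing.HasRHomCx K] [DRing.HasRHomCx G]

/-- **Greenlees–May duality for `RHom`**: `RHom(K, L)^∧ ≅ RHom(G, RΓ_I L)` when `G` represents
`RΓ_I K` -/
theorem nonempty_completion_RHomCx_iso
    (hG : Nonempty (Q.obj G ≅ (DRing.RgammaI I).obj (Q.obj K))) (L : Dual.D A) :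
    Nonempty (((DRing.derivedCompletion I).obj ((DRing.RHomCx K).obj L)).obj ≅
      (DRing.RHomCx G).obj ((DRing.RgammaI I).obj L)) := by
  obtain ⟨eG⟩ := hG
  have hI : I.FG := IsNoetherian.noetherian I
  -- Step 0: `RHom(K, L)^∧ ≅ RHom(K, L^∧)`
  obtain ⟨h1, h2⟩ := derivedCompletion_RHomCx K I hI L
  obtain ⟨e0, -⟩ := exists_iso_of_universal (DRing.IsDerivedComplete I)
    (DRing.toDerivedCompletion I ((DRing.RHomCx K).obj L))
    ((DRing.RHomCx K).map (DRing.toDerivedCompletion I L))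
    ((DRing.derivedCompletion I).obj _).property h1
    (toDerivedCompletion_universal I _) h2.universal
  -- representatives
  obtain ⟨J, hJ, -, ⟨eJ⟩⟩ := exists_rep L
  obtain ⟨Jc, hJc, -, ⟨eJc⟩⟩ := exists_rep ((DRing.derivedCompletion I).obj L).obj
  obtain ⟨JΓ, hJΓ, -, ⟨eJΓ⟩⟩ := exists_rep ((DRing.RgammaI I).obj L)
  obtain ⟨JK, s, hJK, hs⟩ := Groth.Agent.H9.RG.hKinj K
  haveI := hJ
  haveI := hJc
  haveI := hJΓ
  haveI := hJK
  haveI := hs
  haveI : IsIso (Q.map s) := by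
    rw [isIso_Q_map_iff_quasiIso]; exact hs
  obtain ⟨η', hη'⟩ := Groth.Agent.H6.DerivedProd.Q_map_surjective_of_isKInjective J Jc
    (eJ.inv ≫ DRing.toDerivedCompletion I L ≫ eJc.hom)
  obtain ⟨ε', hε'⟩ := Groth.Agent.H6.DerivedProd.Q_map_surjective_of_isKInjective JΓ J
    (eJΓ.inv ≫ (DRing.RgammaIε I).app L ≫ eJ.hom)
  obtain ⟨g, hg⟩ := Groth.Agent.H6.DerivedProd.Q_map_surjective_of_isKInjective G JK
    (eG.hom ≫ (DRing.RgammaIε I).app (Q.obj K) ≫ Q.map s)
  -- torsion facts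
  have hGt : ∀ n : ℤ, TorsP I ((Q.obj G)⟦n⟧) := fun n =>
    torsP_shift I _ (torsP_of_iso I eG.symm (torsP_RgammaI I _)) n
  -- the four quasi-isomorphisms
  have q2 : QuasiIso (homCxPre s Jc) := quasiIso_homCxPre_of_isKInjective s Jc
  have q3 : QuasiIso (homCxPre g Jc) := by
    refine quasiIso_homCxPre_of_locEq g Jc (DRing.IsDerivedComplete I) ?_ ?_
      (fun e h => isDerivedComplete_of_iso I e h)
    · rw [hg]
      exact LocEq.comp (LocEq.of_isIso _ _)
        (LocEq.comp (locEq_RgammaIε_isDerivedComplete I _) (LocEq.of_isIso _ _))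
    · intro n
      exact isDerivedComplete_shift I _
        (isDerivedComplete_of_iso I eJc ((DRing.derivedCompletion I).obj L).property) n
  have q4 : QuasiIso (DRing.homCxMap G η') := by
    refine quasiIso_homCxMap_of_coLocal G η' (TorsP I) (fun G' hG' => ?_) hGt
    rw [hη']
    have key : (fun g : G' ⟶ Q.obj J => g ≫ eJ.inv ≫ DRing.toDerivedCompletion I L ≫ eJc.hom) =
        (fun g : G' ⟶ ((DRing.derivedCompletion I).obj L).obj => g ≫ eJc.hom) ∘
        (fun g : G' ⟶ L => g ≫ DRing.toDerivedCompletion I L) ∘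
        (fun g : G' ⟶ Q.obj J => g ≫ eJ.symm.hom) := by
      funext g
      simp
    rw [key]
    exact (bijective_postcomp_iso eJc).comp
      ((bijective_comp_toDerivedCompletion I G' L hG').comp (bijective_postcomp_iso eJ.symm))
  have q5 : QuasiIso (DRing.homCxMap G ε') := by
    refine quasiIso_homCxMap_of_coLocal G ε' (TorsP I) (fun G' hG' => ?_) hGt
    rw [hε']
    have key : (fun g : G' ⟶ Q.obj JΓ => g ≫ eJΓ.inv ≫ (DRing.RgammaIε I).app L ≫ eJ.hom) =
        (fun g : G' ⟶ L => g ≫ eJ.hom) ∘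
        (fun g : G' ⟶ (DRing.RgammaI I).obj L => g ≫ (DRing.RgammaIε I).app L) ∘
        (fun g : G' ⟶ Q.obj JΓ => g ≫ eJΓ.symm.hom) := by
      funext g
      simp
    rw [key]
    exact (bijective_postcomp_iso eJ).comp
      ((bijective_comp_ε I G' L hG').comp (bijective_postcomp_iso eJΓ.symm))
  haveI : IsIso (Q.map (homCxPre s Jc)) := by
    rw [isIso_Q_map_iff_quasiIso]; exact q2
  haveI : IsIso (Q.map (homCxPre g Jc)) := by
    rw [isIso_Q_map_iff_quasiIso]; exact q3
  haveI : IsIso (Q.map (DRing.homCxMap G η')) := by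
    rw [isIso_Q_map_iff_quasiIso]; exact q4
  haveI : IsIso (Q.map (DRing.homCxMap G ε')) := by
    rw [isIso_Q_map_iff_quasiIso]; exact q5
  exact ⟨e0 ≪≫ (DRing.RHomCx K).mapIso eJc ≪≫ RHomCxIso K Jc hJc ≪≫
    (asIso (Q.map (homCxPre s Jc))).symm ≪≫ asIso (Q.map (homCxPre g Jc)) ≪≫
    (asIso (Q.map (DRing.homCxMap G η'))).symm ≪≫ (asIso (Q.map (DRing.homCxMap G ε'))).symm ≪≫
    (RHomCxIso G JΓ hJΓ).symm ≪≫ (DRing.RHomCx G).mapIso eJΓ.symm⟩

end Groth.Agent.H9.LD
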