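import Mathlib
import Groth.Agent.H9.RH.HDEquiv
import Groth.Agent.H9.DCF.Main
import Groth.Agent.H9.LD.DerivedLD
import Groth.Agent.H9.LD.RGammaOmega
import Groth.Agent.H9.LD.HomToInjShift

/-!
# Local duality over a Noetherian local ring (not necessarily complete), Hom-module form (helper9)

`(Hom_{D(A)}(K, ω[n]))^∧ ≃ Hom_A(H^{-n}(RΓ_𝔪 K), E)` whenever all `Hom_{D(A)}(K, ω[j])` are finite.
-/

set_option autoImplicit false
universe v u

open CategoryTheory CategoryTheory.Limits DerivedCategory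

attribute [local instance] HasDerivedCategory.standard

namespace Groth.Agent.H9.LD

open Groth.Agent.H9.RG Groth.Agent.H9.DC Groth.Agent.H9.DCF Groth.Agent.H9.RH IsLocalRing

/-- `A`-linear equivalence of adic completions, universe polymorphic -/
noncomputable def congrA' {A : Type u} [CommRing A] (I : Ideal A) {M : Type v} {N : Type u}
    [AddCommGroup M] [Module A M] [AddCommGroup N] [Module A N] (f : M ≃ₗ[A] N) :
    AdicCompletion I M ≃ₗ[A] AdicCompletion I N :=
  (AdicCompletion.congr I f).restrictScalars A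

variable {A : Type u} [CommRing A] [IsLocalRing A] [IsNoetherianRing A]

/-- **local duality, general form** -/
theorem nonempty_completion_hom_equiv_dual [DRing.HasRgammaI (maximalIdeal A)] (ω : Dual.D A) (hω : Dual.IsDualizing A ω)
    (hn : Dual.IsNormalized A ω) (E : Type u) [AddCommGroup E] [Module A E]
    (f : ResidueField A →ₗ[A] E) (hf : InjHull.IsInjectiveHull f) (K : Dual.D A)
    (hfin : ∀ j : ℤ, Module.Finite A (K ⟶ ω⟦j⟧)) (n m : ℤ) (h : n + m = 0) :
    Nonempty (AdicCompletion (maximalIdeal A) (K ⟶ ω⟦n⟧) ≃ₗ[A]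
      (Dual.HD A ((DRing.RgammaI (maximalIdeal A)).obj K) m →ₗ[A] E)) := by
  haveI := hasDerivedCompletion (maximalIdeal A) (IsNoetherian.noetherian _)
  haveI : Module.Injective A E := hf.isInjective
  -- complexes representing `K` and `RΓ K`
  let Kc : DRing.Cx A := Q.objPreimage K
  let eK : Q.obj Kc ≅ K := Q.objObjPreimageIso K
  let Gc : DRing.Cx A := Q.objPreimage ((DRing.RgammaI (maximalIdeal A)).obj (Q.obj Kc))
  let eG : Q.obj Gc ≅ (DRing.RgammaI (maximalIdeal A)).obj (Q.obj Kc) := Q.objObjPreimageIso _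
  haveI := hasRHomCx Kc
  haveI := hasRHomCx Gc
  let X : Dual.D A := (DRing.RHomCx Kc).obj ω
  -- cohomology of `X`
  have eX : ∀ j : ℤ, Dual.HD A X j ≃ₗ[A] (K ⟶ ω⟦j⟧) := fun j =>
    (nonempty_HD_RHomCx_equiv Kc ω j).some.trans (homCongrLeft eK)
  have hX : ∀ j : ℤ, Module.Finite A (Dual.HD A X j) := fun j => by
    haveI := hfin j
    exact Module.Finite.equiv (eX j).symm
  -- DCF
  obtain ⟨e0, -⟩ := PC_of_finite (maximalIdeal A) X hX _
    (DRing.toDerivedCompletion (maximalIdeal A) X) (isDC_toDerivedCompletion X) n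
  -- Greenlees–May duality
  obtain ⟨e1⟩ := nonempty_completion_RHomCx_iso (maximalIdeal A) Kc Gc ⟨eG⟩ ω
  obtain ⟨e2⟩ := nonempty_RgammaI_iso_inD ω hω hn E f hf
  let e3 : ((DRing.derivedCompletion (maximalIdeal A)).obj X).obj ≅
      (DRing.RHomCx Gc).obj (Dual.inD A E) := e1 ≪≫ (DRing.RHomCx Gc).mapIso e2
  have e4 : Dual.HD A ((DRing.derivedCompletion (maximalIdeal A)).obj X).obj n ≃ₗ[A]
      Dual.HD A ((DRing.RHomCx Gc).obj (Dual.inD A E)) n :=
    ((homologyFunctor (ModuleCat.{u} A) n).mapIso e3).toLinearEquiv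
  have e5 : Dual.HD A ((DRing.RHomCx Gc).obj (Dual.inD A E)) n ≃ₗ[A]
      (Q.obj Gc ⟶ (Dual.inD A E)⟦n⟧) := (nonempty_HD_RHomCx_equiv Gc (Dual.inD A E) n).some
  have e6 : (Q.obj Gc ⟶ (Dual.inD A E)⟦n⟧) ≃ₗ[A]
      ((DRing.RgammaI (maximalIdeal A)).obj K ⟶ (Dual.inD A E)⟦n⟧) :=
    homCongrLeft (eG ≪≫ (DRing.RgammaI (maximalIdeal A)).mapIso eK)
  have e7 := homToInjEquiv ((DRing.RgammaI (maximalIdeal A)).obj K) E n m h
  exact ⟨(congrA' (maximalIdeal A) (eX n).symm).trans
    (e0.symm.trans (e4.trans (e5.trans (e6.trans e7))))⟩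

end Groth.Agent.H9.LD
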