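import Mathlib
import Groth.Agent.H9.LD.GeneralLD
import Groth.Agent.H9.LD.FiniteHom
import Groth.Agent.H9.LD.AnnihDual
import Groth.Agent.H2.InjHull

/-!
# Vanishing of `Hom(K, ω[n])` versus vanishing of `H^{-n}(RΓ_𝔪 K)` (helper9)
-/

set_option autoImplicit false
universe u

open CategoryTheory CategoryTheory.Limits DerivedCategory IsLocalRing

attribute [local instance] HasDerivedCategory.standard

namespace Groth.Agent.H9.LD

variable {A : Type u} [CommRing A] [IsLocalRing A] [IsNoetherianRing A]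

/-- `Hom(K, ω[n]) = 0 ↔ H^m(RΓ_𝔪 K) = 0` for `n + m = 0`, `K` bounded with finite cohomology -/
theorem subsingleton_hom_iff_subsingleton_HD_RgammaI [DRing.HasRgammaI (maximalIdeal A)]
    (ω : Dual.D A) (hω : Dual.IsDualizing A ω) (hn : Dual.IsNormalized A ω) (K : Dual.D A)
    (hK : ∀ n : ℤ, Module.Finite A (Dual.HD A K n))
    (hbd : ∃ c d : ℤ, ∀ i : ℤ, (i < c ∨ d < i) → Subsingleton (Dual.HD A K i))
    (n m : ℤ) (h : n + m = 0) :
    Subsingleton (K ⟶ ω⟦n⟧) ↔
      Subsingleton (Dual.HD A ((DRing.RgammaI (maximalIdeal A)).obj K) m) := by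
  obtain ⟨E, _, _, f, hf⟩ := Groth.Agent.H2.exists_isInjectiveHull (R := A) (ResidueField A)
  obtain ⟨a, b, hab⟩ := hω.finite_injective_dimension
  have hfin : ∀ j : ℤ, Module.Finite A (K ⟶ ω⟦j⟧) := fun j =>
    finite_hom_of_bounded ω a (fun M' _ _ i hi => hab M' i (Or.inl hi)) hω.finite_cohomology
      K hK hbd j
  obtain ⟨e⟩ := nonempty_completion_hom_equiv_dual ω hω hn E f hf K hfin n m h
  haveI := hfin n
  rw [← Module.annihilator_eq_top_iff (R := A), ← Module.annihilator_eq_top_iff (R := A),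
    ← annihilator_adicCompletion (K ⟶ ω⟦n⟧), e.annihilator_eq, annihilator_dual f hf]

end Groth.Agent.H9.LD
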