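import Mathlib
import Groth.Agent.S7048
import Groth.Agent.S7050
import Groth.Agent.H9.LD.HomToInjShift
import Groth.Agent.H9.LD.TorsionHom
import Groth.Agent.H9.LD.RGammaOmega
import Groth.Agent.H9.LD.HomQis

/-!
# Local duality

For a Noetherian local ring `A` with normalized dualizing complex `ω`, injective hull `E` of the
residue field, and any `K` in `D(A)`:
`Hom_A(H^i_𝔪(K), E) ≃ Hom_{D(A)}(K, L[-i])` for every derived complete `L` with `RΓ_𝔪 L ≅ E[0]`;
in particular for `L = ω` when `A` is complete.
-/

set_option autoImplicit false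
universe u

open CategoryTheory CategoryTheory.Limits CategoryTheory.Pretriangulated IsLocalRing

attribute [local instance] HasDerivedCategory.standard

namespace Groth.Agent.H9.LD

open DerivedCategory Groth.Agent.H9.RG Groth.Agent.H9.DC

section Complete

variable {R : Type u} [CommRing R] [IsNoetherianRing R] (I : Ideal R) [IsAdicComplete I R]
  (M : Type u) [AddCommGroup M] [Module R M] [Module.Finite R M]

/-- finite modules over a complete Noetherian ring are complete (as in `H15.MTA`) -/
theorem isAdicComplete_of_finite : IsAdicComplete I M := by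
  haveI : IsHausdorff I M := IsHausdorff.of_le_jacobson I M (IsAdicComplete.le_jacobson_bot I)
  haveI : IsPrecomplete I M := by
    rw [← AdicCompletion.of_surjective_iff]
    intro y
    obtain ⟨x, rfl⟩ := (AdicCompletion.ofTensorProductEquivOfFiniteNoetherian I M).surjective y
    induction x using TensorProduct.induction_on with
    | zero => exact ⟨0, by simp⟩
    | add a b ha hb =>
      obtain ⟨m, hm⟩ := ha
      obtain ⟨m', hm'⟩ := hb
      exact ⟨m + m', by rw [map_add, map_add, hm, hm']⟩
    | tmul r m =>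
      obtain ⟨r₀, rfl⟩ := AdicCompletion.of_surjective I R r
      refine ⟨r₀ • m, ?_⟩
      rw [AdicCompletion.ofTensorProductEquivOfFiniteNoetherian_apply,
        AdicCompletion.ofTensorProduct_tmul, map_smul]
      have h1 : AdicCompletion.of I R r₀ = algebraMap R (AdicCompletion I R) r₀ := by
        rw [AdicCompletion.algebraMap_apply]
        rfl
      rw [h1, algebraMap_smul]
  exact {}

/-- an object of `D(R)` with finite cohomology modules is derived complete when `R` is complete -/
theorem isDerivedComplete_of_finite_HD (K : Dual.D R) (hK : ∀ i : ℤ, Module.Finite R (Dual.HD R K i)) :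
    DRing.IsDerivedComplete I K := by
  rw [Groth.Agent.S7050.result]
  intro i
  haveI := hK i
  haveI := isAdicComplete_of_finite I (Dual.HD R K i)
  exact Groth.Agent.S7048.result I (Dual.HD R K i)

end Complete

variable {A : Type u} [CommRing A] [IsNoetherianRing A] (I : Ideal A) [DRing.HasRgammaI I]

/-- **abstract local duality**: if `L` is derived `I`-complete and `RΓ_I L ≅ E[0]` with `E`
injective, then `Hom(K, L[n]) ≃ Hom_A(H^m(RΓ_I K), E)` for `n + m = 0` -/
theorem nonempty_hom_equiv_dual_HD (L : Dual.D A) (hL : DRing.IsDerivedComplete I L)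
    (E : Type u) [AddCommGroup E] [Module A E] [Module.Injective A E]
    (eL : (DRing.RgammaI I).obj L ≅ Dual.inD A E) (K : Dual.D A) (n m : ℤ) (h : n + m = 0) :
    Nonempty ((K ⟶ L⟦n⟧) ≃ₗ[A]
      (Dual.HD A ((DRing.RgammaI I).obj K) m →ₗ[A] E)) := by
  let G := (DRing.RgammaI I).obj K
  have hG : TorsP I G := torsP_RgammaI I K
  -- (1) precomposition with `ε_K`
  let e1 : (K ⟶ L⟦n⟧) ≃ₗ[A] (G ⟶ L⟦n⟧) :=
    LinearEquiv.ofBijective (Linear.leftComp A (L⟦n⟧) ((DRing.RgammaIε I).app K))
      (locEq_RgammaIε_isDerivedComplete I K _ (isDerivedComplete_shift I L hL n))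
  -- (2) postcomposition with `ε_L⟦n⟧`
  let e2 : (G ⟶ ((DRing.RgammaI I).obj L)⟦n⟧) ≃ₗ[A] (G ⟶ L⟦n⟧) :=
    LinearEquiv.ofBijective (Linear.rightComp A G (((DRing.RgammaIε I).app L)⟦n⟧'))
      (bijective_postcomp_shift ((DRing.RgammaIε I).app L) n
        (bijective_comp_ε I _ L (torsP_shift I G hG (-n))))
  -- (3) postcomposition with the isomorphism `RΓ L ≅ E[0]`
  let e3 : (G ⟶ ((DRing.RgammaI I).obj L)⟦n⟧) ≃ₗ[A] (G ⟶ (Dual.inD A E)⟦n⟧) :=
    Linear.homCongr A (Iso.refl G) ((shiftFunctor (Dual.D A) n).mapIso eL)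
  exact ⟨e1.trans (e2.symm.trans (e3.trans (homToInjEquiv G E n m h)))⟩

end Groth.Agent.H9.LD
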