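import Groth.Agent.H2.MatlisChar

/-!
# An increasing union of copies of `E[𝔪ⁿ]` is the injective hull `E` of the residue field

Let `A` be a Noetherian local ring and `κ → E` an injective hull.  If an `A`-module `X` is the
increasing union of submodules `Xₙ` with `Xₙ ≃ E[𝔪ⁿ]` (abstractly, no compatibility), then `X ≃ E`.
-/

set_option autoImplicit false
universe u

namespace Groth.Agent.H9.LD

open IsLocalRing Groth.Agent.H2.MatlisEnd Groth.Agent.H2.MatlisLength

variable {A : Type u} [CommRing A] [IsLocalRing A] [IsNoetherianRing A]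
variable {E : Type u} [AddCommGroup E] [Module A E]
variable (f : ResidueField A →ₗ[A] E) (hf : InjHull.IsInjectiveHull f)

include hf in
lemma isSimpleModule_tors_one : IsSimpleModule A (tors (R := A) E 1) := by
  rw [← Module.length_eq_one_iff, length_tors_eq f hf 1]
  have : IsSimpleModule A (A ⧸ (maximalIdeal A) ^ 1) :=
    isSimpleModule_iff_quot_maximal.mpr
      ⟨maximalIdeal A, inferInstance, ⟨Submodule.quotEquivOfEq _ _ (pow_one _)⟩⟩
  exact Module.length_eq_one _ _

include hf in
theorem nonempty_equiv_of_union {X : Type u} [AddCommGroup X] [Module A X]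
    (Xn : ℕ → Submodule A X) (hmono : Monotone Xn) (hunion : ∀ x : X, ∃ n, x ∈ Xn n)
    (e : ∀ n, Nonempty (Xn n ≃ₗ[A] tors (R := A) E n)) : Nonempty (X ≃ₗ[A] E) := by
  -- `Xₙ` is killed by `𝔪ⁿ`
  have killed : ∀ (n : ℕ) (x : X), x ∈ Xn n → ∀ a ∈ (maximalIdeal A) ^ n, a • x = 0 := by
    intro n x hx a ha
    obtain ⟨en⟩ := e n
    have h1 : en (a • (⟨x, hx⟩ : Xn n)) = 0 := by
      rw [map_smul]
      apply Subtype.ext
      exact mem_tors.mp (en ⟨x, hx⟩).2 a ha
    have h2 : a • (⟨x, hx⟩ : Xn n) = 0 := en.injective (h1.trans (map_zero en).symm)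
    exact congrArg Subtype.val h2
  have hPT : LocCoh.IsPowerTorsion (maximalIdeal A) X := by
    intro x
    obtain ⟨n, hn⟩ := hunion x
    exact ⟨n, killed n x hn⟩
  have hs1 := isSimpleModule_tors_one f hf
  -- the socle of `X` is `X₁`
  have hsocle : LocCoh.torsionBy (maximalIdeal A) X = Xn 1 := by
    apply le_antisymm
    · intro x hx
      have hx' : ∀ a ∈ maximalIdeal A, a • x = 0 := fun a ha =>
        (Submodule.mem_torsionBySet_iff _ _).mp hx ⟨a, ha⟩
      obtain ⟨n, hn⟩ := hunion x
      have hxN : x ∈ Xn (max n 1) := hmono (le_max_left n 1) hn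
      obtain ⟨en⟩ := e (max n 1)
      obtain ⟨e1⟩ := e 1
      -- a nonzero element of `X₁`
      obtain ⟨y0, hy0⟩ : ∃ y0 : Xn 1, y0 ≠ 0 := by
        have : Nontrivial (tors (R := A) E 1) := IsSimpleModule.nontrivial A _
        have : Nontrivial (Xn 1) := e1.toEquiv.nontrivial
        exact exists_ne 0
      have hyN : (y0 : X) ∈ Xn (max n 1) := hmono (le_max_right n 1) y0.2
      have hu : ((en ⟨x, hxN⟩ : tors (R := A) E (max n 1)) : E) ∈ tors (R := A) E 1 := by
        rw [mem_tors]
        intro a ha
        rw [pow_one] at ha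
        have h1 : a • (⟨x, hxN⟩ : Xn (max n 1)) = 0 := Subtype.ext (hx' a ha)
        have h2 := congrArg en h1
        rw [map_smul, map_zero] at h2
        exact congrArg Subtype.val h2
      have hv : ((en ⟨(y0 : X), hyN⟩ : tors (R := A) E (max n 1)) : E) ∈ tors (R := A) E 1 := by
        rw [mem_tors]
        intro a ha
        have h1 : a • (⟨(y0 : X), hyN⟩ : Xn (max n 1)) = 0 :=
          Subtype.ext (killed 1 y0 y0.2 a ha)
        have h2 := congrArg en h1
        rw [map_smul, map_zero] at h2
        exact congrArg Subtype.val h2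
      have hv0 : (⟨_, hv⟩ : tors (R := A) E 1) ≠ 0 := by
        intro h0
        have h1 : ((en ⟨(y0 : X), hyN⟩ : tors (R := A) E (max n 1)) : E) = 0 :=
          congrArg Subtype.val h0
        have h2 : en ⟨(y0 : X), hyN⟩ = 0 := Subtype.ext h1
        have h3 : (⟨(y0 : X), hyN⟩ : Xn (max n 1)) = 0 :=
          en.injective (h2.trans (map_zero en).symm)
        have h7 : (y0 : X) = 0 := congrArg Subtype.val h3
        exact hy0 (Subtype.ext h7)
      obtain ⟨a, ha⟩ := IsSimpleModule.toSpanSingleton_surjective A hv0 ⟨_, hu⟩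
      have ha' : a • ((en ⟨(y0 : X), hyN⟩ : tors (R := A) E (max n 1)) : E) =
          ((en ⟨x, hxN⟩ : tors (R := A) E (max n 1)) : E) := congrArg Subtype.val ha
      have h4 : en (a • (⟨(y0 : X), hyN⟩ : Xn (max n 1))) = en ⟨x, hxN⟩ := by
        rw [map_smul]
        exact Subtype.ext ha'
      have h5 := en.injective h4
      have h6 : a • (y0 : X) = x := congrArg Subtype.val h5
      rw [← h6]
      exact (Xn 1).smul_mem a y0.2
    · intro x hx
      rw [Submodule.mem_torsionBySet_iff]
      rintro ⟨a, ha⟩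
      exact killed 1 x hx a (by rwa [pow_one])
  have hsimple : IsSimpleModule A (LocCoh.torsionBy (maximalIdeal A) X) := by
    obtain ⟨e1⟩ := e 1
    exact IsSimpleModule.congr ((LinearEquiv.ofEq _ _ hsocle).trans e1)
  obtain ⟨g, hg⟩ := Groth.Agent.H2.MatlisChar.exists_embedding_of_simple_socle hPT hsimple f hf
  have hsurj : Function.Surjective g := by
    intro y
    obtain ⟨N, hN⟩ := iSup_tors_eq_top f hf y
    obtain ⟨eN⟩ := e N
    have hmaps : ∀ x : Xn N, g x ∈ tors (R := A) E N := by
      intro x
      rw [mem_tors]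
      intro a ha
      rw [← map_smul, killed N x x.2 a ha, map_zero]
    let gN : Xn N →ₗ[A] tors (R := A) E N :=
      (g ∘ₗ (Xn N).subtype).codRestrict (tors (R := A) E N) hmaps
    have hgN : Function.Injective gN := by
      intro x x' hxx
      apply Subtype.ext
      apply hg
      exact congrArg Subtype.val hxx
    have hfinQ : IsFiniteLength A (tors (R := A) E N) := by
      rw [← Module.length_ne_top_iff, length_tors_eq f hf N, Module.length_ne_top_iff]
      exact isFiniteLength_quotient_pow N
    have hle : Module.length A (tors (R := A) E N) ≤ Module.length A (Xn N) := by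
      rw [eN.length_eq]
    obtain ⟨x, hx⟩ := surjective_of_injective_of_length_le gN hgN hfinQ hle ⟨y, hN⟩
    exact ⟨x.1, congrArg Subtype.val hx⟩
  exact ⟨LinearEquiv.ofBijective g ⟨hg, hsurj⟩⟩

end Groth.Agent.H9.LD
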