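import Groth.Agent.S1749
import Groth.Agent.H9.RG.HDI3
import Groth.Agent.H9.LD.UnionHull
import Groth.Agent.H9.LD.NatColim
import Groth.Agent.H2.DualCx.Roberts
import Groth.Agent.H2.MatlisLength

/-!
# Local cohomology of a normalized dualizing complex: `RΓ_𝔪(ω) = E[0]`

`colim_n Hom_{D(A)}(A/𝔪ⁿ, ω[i])` is `E` for `i = 0` and `0` otherwise.
-/

set_option autoImplicit false
universe u
open CategoryTheory CategoryTheory.Limits Opposite IsLocalRing

attribute [local instance] HasDerivedCategory.standard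

namespace Groth.Agent.H9.LD

open Groth.Agent.H9.RG Groth.Agent.H2.DualCx Groth.Agent.H2.MatlisEnd Groth.Agent.H2.MatlisLength

section General

variable {A : Type u} [CommRing A] (I : Ideal A) (q : ℤ) (K : Dual.D A)

/-- the quotient map `A/I^k → A/I^n` -/
noncomputable abbrev qmap {n k : ℕ} (h : n ≤ k) : (A ⧸ I ^ k) →ₗ[A] (A ⧸ I ^ n) :=
  Submodule.mapQ (I ^ k) (I ^ n) LinearMap.id (by simpa using Ideal.pow_le_pow_right h)

lemma qmap_surjective {n k : ℕ} (h : n ≤ k) : Function.Surjective (qmap I h) := by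
  intro x
  obtain ⟨a, rfl⟩ := Submodule.Quotient.mk_surjective _ x
  exact ⟨Submodule.Quotient.mk a, rfl⟩

lemma tr_FD_apply {n k : ℕ} (h : n ≤ k) (z : T K q (A ⧸ I ^ n)) :
    (tr (FD I q K) h).hom z = precomp K q (qmap I h) z := rfl

/-- `Hom(N, ω[0]) ≃ Hom(N, ω)` -/
noncomputable def shiftZeroEquiv (N : Type u) [AddCommGroup N] [Module A N] :
    (Dual.inD A N ⟶ K⟦(0 : ℤ)⟧) ≃ₗ[A] (Dual.inD A N ⟶ K) where
  toFun g := g ≫ ((shiftFunctorZero (Dual.D A) ℤ).app K).hom
  invFun g := g ≫ ((shiftFunctorZero (Dual.D A) ℤ).app K).inv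
  map_add' g g' := Preadditive.add_comp _ _ _ g g' _
  map_smul' a g := Linear.smul_comp _ _ _ a g _
  left_inv g := by simp
  right_inv g := by simp

end General

variable {A : Type u} [CommRing A] [IsLocalRing A] [IsNoetherianRing A]
variable (ω : Dual.D A) (hω : Dual.IsDualizing A ω) (hn : Dual.IsNormalized A ω)

include hω hn in
lemma tr_injective {n k : ℕ} (h : n ≤ k) :
    Function.Injective (tr (FD (maximalIdeal A) 0 ω) h).hom := by
  have hfl : IsFiniteLength A (LinearMap.ker (qmap (maximalIdeal A) h)) :=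
    (isFiniteLength_quotient_pow (R := A) k).of_injective
      (f := (LinearMap.ker (qmap (maximalIdeal A) h)).subtype) (Submodule.injective_subtype _)
  exact precomp_injective_of_subsingleton ω (LinearMap.ker (qmap (maximalIdeal A) h)).subtype
    (qmap (maximalIdeal A) h) (Submodule.injective_subtype _) (qmap_surjective _ h)
    (LinearMap.exact_subtype_ker_map _) (-1) 0 (by omega)
    (subsingleton_of_isFiniteLength (norm_of_isDualizing hω hn) (-1) (by omega) _ hfl)

include hω hn in
theorem localCohomology_normalized_dualizing (E : Type u) [AddCommGroup E] [Module A E]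
    (f : ResidueField A →ₗ[A] E) (hf : InjHull.IsInjectiveHull f) :
    Nonempty (Dual2.HDI A (maximalIdeal A) ω 0 ≃ₗ[A] E) ∧
      ∀ i : ℤ, i ≠ 0 → Subsingleton (Dual2.HDI A (maximalIdeal A) ω i) := by
  constructor
  · haveI := Groth.Agent.H9.RG.hasRgammaI (maximalIdeal A)
    obtain ⟨e0⟩ := Groth.Agent.H9.RG.nonempty_hd_equiv_hdi (maximalIdeal A) 0 ω
    let F := FD (maximalIdeal A) 0 ω
    let ιn : ∀ n : ℕ, F.obj (op (op n)) →ₗ[A] Dual2.HDI A (maximalIdeal A) ω 0 :=
      fun n => (colimit.ι F (op (op n))).hom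
    let Xn : ℕ → Submodule A (Dual.HD A ((DRing.RgammaI (maximalIdeal A)).obj ω) 0) :=
      fun n => Submodule.map e0.symm.toLinearMap (LinearMap.range (ιn n))
    have hmono : Monotone Xn := by
      intro n k h
      apply Submodule.map_mono
      rintro _ ⟨z, rfl⟩
      refine ⟨(tr F h).hom z, ?_⟩
      exact congrArg (fun g => g.hom z) (colimit.w F (homOfLE h).op.op)
    have hunion : ∀ x, ∃ n, x ∈ Xn n := by
      intro x
      obtain ⟨j, y, hy⟩ := colimit_exists_rep' F (e0 x)
      exact ⟨j.unop.unop, ⟨e0 x, ⟨y, hy⟩, e0.symm_apply_apply x⟩⟩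
    have he : ∀ n, Nonempty (Xn n ≃ₗ[A] tors (R := A) E n) := by
      intro n
      have hinj : Function.Injective (ιn n) :=
        colimit_ι_injective F (fun h => tr_injective ω hω hn h) n
      let e1 : (F.obj (op (op n))) ≃ₗ[A] LinearMap.range (ιn n) :=
        LinearEquiv.ofInjective (ιn n) hinj
      let e2 : LinearMap.range (ιn n) ≃ₗ[A] Xn n :=
        e0.symm.submoduleMap (LinearMap.range (ιn n))
      obtain ⟨e3⟩ := (Groth.Agent.S1749.result A ω hω hn E f hf (A ⧸ (maximalIdeal A) ^ n)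
        (isFiniteLength_quotient_pow n)).2
      let e4 : (F.obj (op (op n))) ≃ₗ[A] (Dual.inD A (A ⧸ (maximalIdeal A) ^ n) ⟶ ω) :=
        shiftZeroEquiv ω (A ⧸ (maximalIdeal A) ^ n)
      exact ⟨e2.symm.trans (e1.symm.trans (e4.trans (e3.trans (dualEquivTors E n))))⟩
    exact ⟨e0.symm.trans (nonempty_equiv_of_union f hf Xn hmono hunion he).some⟩
  · intro i hi
    have key : ∀ x : Dual2.HDI A (maximalIdeal A) ω i, x = 0 := by
      intro x
      obtain ⟨j, y, rfl⟩ := colimit_exists_rep' (FD (maximalIdeal A) i ω) x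
      haveI : Subsingleton ((FD (maximalIdeal A) i ω).obj j) :=
        (Groth.Agent.S1749.result A ω hω hn E f hf (A ⧸ (maximalIdeal A) ^ j.unop.unop)
          (isFiniteLength_quotient_pow _)).1 i hi
      rw [Subsingleton.elim y 0, map_zero]
    exact ⟨fun x y => by rw [key x, key y]⟩

end Groth.Agent.H9.LD
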